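import Groth.Agent.HTopCov.OverCriterion
import Groth.Agent.HTopCov.AlmostBlowUp
import Groth.Agent.HTopCov.DVR

/-!
Covering sieves of the finest topology for which a presheaf over `S` is a sheaf: reduction to affine tests, flat
proper surjections and almost blow up squares.
-/

set_option autoImplicit false
set_option backward.isDefEq.respectTransparency false
set_option backward.isDefEq.respectTransparency.types false
set_option linter.style.haveILetI false

universe w u

namespace Groth.Agent.HTopTree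

open CategoryTheory CategoryTheory.Limits AlgebraicGeometry HTop Opposite

variable {S : Scheme.{u}} {F : (Over S)ᵒᵖ ⥤ Type w}

/-- The finest topology for which `F` is a sheaf. -/
noncomputable abbrev JF (F : (Over S)ᵒᵖ ⥤ Type w) : GrothendieckTopology (Over S) := Sheaf.finestTopologySingle F

theorem zariski_le (hz : Presieve.IsSheaf (Scheme.zariskiTopology.over S) F) :
    Scheme.zariskiTopology.over S ≤ JF F :=
  fun _ _ hR _ k => hz _ ((Scheme.zariskiTopology.over S).pullback_stable k hR)

theorem isSheafFor_of_mem {T : Over S} {R : Presieve T} (h : Sieve.generate R ∈ JF F T) :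
    Presieve.IsSheafFor F R := by
  rw [Presieve.isSheafFor_iff_generate]
  simpa using h T (𝟙 T)

open HTopCov.OverCrit in
/-- A sieve with the sheaf property on all affine schemes over its target is covering. -/
theorem mem_of_affine (hz : Presieve.IsSheaf (Scheme.zariskiTopology.over S) F) {T : Over S} (R : Sieve T)
    (h : ∀ (W : Over S) [IsAffine W.left] (c : W ⟶ T), Presieve.IsSheafFor F (R.pullback c).arrows) :
    R ∈ JF F T := by
  have hsep : ∀ {Y : Over S} (k : Y ⟶ T), Presieve.IsSeparatedFor F (R.pullback k).arrows := fun {Y} k x y₁ y₂ h₁ h₂ => by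
    refine (hz _ (affineSieve_mem Y)).isSeparatedFor.ext fun Z g hg => ?_
    obtain ⟨W, a, c, hW, rfl⟩ := exists_fac_of_affineSieve hg
    haveI := hW
    rw [op_comp, Functor.map_comp_apply, Functor.map_comp_apply]
    refine congrArg (F.map a.op) ((h W (c ≫ k)).isSeparatedFor.ext fun Z' l hl => ?_)
    have hl' : R.pullback k (l ≫ c) := by
      show R ((l ≫ c) ≫ k)
      rw [Category.assoc]
      exact hl
    rw [← Functor.map_comp_apply, ← Functor.map_comp_apply, ← op_comp]
    exact (h₁ _ hl').trans (h₂ _ hl').symm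
  intro Y k x hx
  have hxs := (Presieve.compatible_iff_sieveCompatible x).mp hx
  have hxeq : ∀ {Z : Over S} {a b : Z ⟶ Y} (ha : R.pullback k a) (hb : R.pullback k b), a = b →
      x a ha = x b hb := by
    intro Z a b ha hb e
    subst e
    rfl
  let Ext : ∀ {Z : Over S}, (Z ⟶ Y) → F.obj (op Z) → Prop := fun {Z} g z =>
    ∀ ⦃W' : Over S⦄ (l : W' ⟶ Z) (hl : R.pullback k (l ≫ g)), F.map l.op z = x (l ≫ g) hl
  have hcomp : ∀ {Z Z' : Over S} (g : Z ⟶ Y) (m : Z' ⟶ Z) (z : F.obj (op Z)), Ext g z → Ext (m ≫ g) (F.map m.op z) := by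
    intro Z Z' g m z hzg W' l hl
    have hl' : R.pullback k ((l ≫ m) ≫ g) := by rwa [Category.assoc]
    rw [← Functor.map_comp_apply, ← op_comp, hzg (l ≫ m) hl']
    exact hxeq _ _ (Category.assoc _ _ _)
  have huniq : ∀ {Z : Over S} (g : Z ⟶ Y) (z z' : F.obj (op Z)), Ext g z → Ext g z' → z = z' := fun {Z} g z z' e e' =>
    (hsep (g ≫ k)).ext fun W' l hl => by
      have hl' : R.pullback k (l ≫ g) := by
        show R ((l ≫ g) ≫ k)
        rw [Category.assoc]
        exact hl
      rw [e l hl', e' l hl']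
  have hex : ∀ {Z : Over S} (g : Z ⟶ Y), affineSieve Y g → ∃ z, Ext g z := fun {Z} g hg => by
    obtain ⟨W, a, c, hW, rfl⟩ := exists_fac_of_affineSieve hg
    haveI := hW
    have hm : ∀ ⦃W' : Over S⦄ (l : W' ⟶ W), R.pullback (c ≫ k) l → R.pullback k (l ≫ c) := fun W' l hl => by
      show R ((l ≫ c) ≫ k)
      rw [Category.assoc]
      exact hl
    let xW : Presieve.FamilyOfElements F (R.pullback (c ≫ k)).arrows := fun W' l hl => x (l ≫ c) (hm l hl)
    have hxW : xW.Compatible := by
      rw [Presieve.compatible_iff_sieveCompatible]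
      intro W₁ W₂ l m hl
      show x ((m ≫ l) ≫ c) _ = F.map m.op (x (l ≫ c) _)
      exact (hxeq _ _ (Category.assoc _ _ _)).trans (hxs (l ≫ c) m (hm l hl))
    obtain ⟨z, hz', -⟩ := h W (c ≫ k) xW hxW
    refine ⟨F.map a.op z, hcomp c a z fun W' l hl => hz' l ?_⟩
    show R (l ≫ c ≫ k)
    rw [← Category.assoc]
    exact hl
  let fam : Presieve.FamilyOfElements F (affineSieve Y).arrows := fun Z g hg => (hex g hg).choose
  have hfam : fam.Compatible := by
    rw [Presieve.compatible_iff_sieveCompatible]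
    intro Z Z' g m hg
    exact huniq (m ≫ g) _ _ (hex _ ((affineSieve Y).downward_closed hg m)).choose_spec
      (hcomp g m _ (hex g hg).choose_spec)
  obtain ⟨y, hy, -⟩ := hz _ (affineSieve_mem Y) fam hfam
  refine ⟨y, fun Z l hl => ?_, fun y' hy' => ?_⟩
  · refine (hz _ ((Scheme.zariskiTopology.over S).pullback_stable l (affineSieve_mem Y))).isSeparatedFor.ext
      fun W m hm => ?_
    rw [← Functor.map_comp_apply, ← op_comp, hy (m ≫ l) hm]
    have := (hex (m ≫ l) hm).choose_spec (𝟙 W) (by
      rw [Category.id_comp]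
      exact (R.pullback k).downward_closed hl m)
    simp only [Category.id_comp, op_id, Functor.map_id_apply] at this
    exact this.trans (hxs l m hl)
  · refine (hz _ (affineSieve_mem Y)).isSeparatedFor.ext fun Z g hg => ?_
    rw [hy g hg]
    refine huniq g _ _ (fun W' l hl => ?_) (hex g hg).choose_spec
    rw [← Functor.map_comp_apply, ← op_comp, hy' _ hl]

/-- Flat proper surjections of finite presentation are covering. -/
theorem singleton_mem (hz : Presieve.IsSheaf (Scheme.zariskiTopology.over S) F)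
    (hflat : ∀ (X Y : Over S) (f : X ⟶ Y), IsAffine Y.left → Surjective f.left → Flat f.left → IsProper f.left →
      LocallyOfFinitePresentation f.left → Presieve.IsSheafFor F (Presieve.singleton f))
    {V T : Over S} (f : V ⟶ T) [Surjective f.left] [Flat f.left] [IsProper f.left]
    [LocallyOfFinitePresentation f.left] : Sieve.generate (Presieve.singleton f) ∈ JF F T := by
  refine mem_of_affine hz _ fun W _ c => ?_
  have sq : IsPullback (pullback.fst c f).left (pullback.snd c f).left c.left f.left :=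
    (IsPullback.of_hasPullback c f).map (Over.forget S)
  have h := hflat _ W (pullback.fst c f) inferInstance
    (MorphismProperty.of_isPullback (P := @Surjective) sq.flip inferInstance)
    (MorphismProperty.of_isPullback (P := @Flat) sq.flip inferInstance)
    (MorphismProperty.of_isPullback (P := @IsProper) sq.flip inferInstance)
    (MorphismProperty.of_isPullback (P := @LocallyOfFinitePresentation) sq.flip inferInstance)
  rw [Presieve.isSheafFor_iff_generate] at h
  convert h using 2
  ext Z l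
  constructor
  · rintro ⟨_, a, _, ⟨⟩, ha⟩
    exact ⟨_, pullback.lift l a ha.symm, _, ⟨⟩, pullback.lift_fst _ _ _⟩
  · rintro ⟨_, a, _, ⟨⟩, rfl⟩
    exact ⟨_, a ≫ pullback.snd c f, f, ⟨⟩, by rw [Category.assoc, ← pullback.condition, Category.assoc]⟩

/-- The square condition for centres generated by two sections. -/
def SquareCond (F : (Over S)ᵒᵖ ⥤ Type w) : Prop :=
  ∀ (E Z X' X : Over S) (e : E ⟶ X') (π : E ⟶ Z) (b : X' ⟶ X) (i : Z ⟶ X), IsAffine X.left →
    IsAlmostBlowUpSquare e.left π.left b.left i.left →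
    (∃ f₁ f₂ : Γ(X.left, ⊤), i.left.ker = Scheme.IdealSheafData.ofIdealTop (Ideal.span {f₁, f₂})) →
    ∀ (t : F.obj (op Z)) (s' : F.obj (op X')), F.map π.op t = F.map e.op s' →
      ∃! s : F.obj (op X), F.map i.op s = t ∧ F.map b.op s = s'

/-- The sieve of an almost blow up square with centre generated by two sections is covering. -/
theorem square_mem (hz : Presieve.IsSheaf (Scheme.zariskiTopology.over S) F) (hsq : SquareCond F)
    {X : Over S} [IsAffine X.left] {E Z X' : Scheme.{u}} {e : E ⟶ X'} {π : E ⟶ Z} {b : X' ⟶ X.left} {i : Z ⟶ X.left}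
    (h : IsAlmostBlowUpSquare e π b i) (f₁ f₂ : Γ(X.left, ⊤))
    (hI : i.ker = Scheme.IdealSheafData.ofIdealTop (Ideal.span {f₁, f₂})) {R : Sieve X}
    (hi : R (Over.homMk i : Over.mk (i ≫ X.hom) ⟶ X)) (hb : R (Over.homMk b : Over.mk (b ≫ X.hom) ⟶ X)) :
    R ∈ JF F X := by
  let Zf : ULift.{u} Bool → Over S := fun j => match j with
    | ⟨true⟩ => Over.mk (b ≫ X.hom)
    | ⟨false⟩ => Over.mk (i ≫ X.hom)
  let gf : ∀ j, Zf j ⟶ X := fun j => match j with
    | ⟨true⟩ => Over.homMk b rfl
    | ⟨false⟩ => Over.homMk i rfl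
  refine (JF F).superset_covering (S := Sieve.ofArrows Zf gf) ?_ ?_
  · refine (Sieve.generate_le_iff _ _).mpr (Presieve.ofArrows_le_iff.mpr ?_)
    rintro ⟨_ | _⟩
    exacts [hi, hb]
  refine mem_of_affine hz _ fun W _ c => ?_
  let g := c.left
  have hX : IsPullback (pullback.fst b g) (pullback.snd b g) b g := IsPullback.of_hasPullback b g
  have hZ : IsPullback (pullback.fst i g) (pullback.snd i g) i g := IsPullback.of_hasPullback i g
  let gX := pullback.fst b g
  have hE : IsPullback (pullback.fst e gX) (pullback.snd e gX) e gX := IsPullback.of_hasPullback e gX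
  let π₁ : pullback e gX ⟶ pullback i g :=
    pullback.lift (pullback.fst e gX ≫ π) (pullback.snd e gX ≫ pullback.snd b g) (by
      rw [Category.assoc, ← h.isPullback.w, pullback.condition_assoc, Category.assoc, hX.w])
  have hπ : π₁ ≫ pullback.snd i g = pullback.snd e gX ≫ pullback.snd b g := pullback.lift_snd _ _ _
  have h₁ := HTopCov.isAlmostBlowUpSquare_baseChange h g hX hZ hE hπ
  haveI := h.isClosedImmersion
  let EW : Over S := Over.mk (pullback.snd e gX ≫ pullback.snd b g ≫ W.hom)
  let ZW : Over S := Over.mk (pullback.snd i g ≫ W.hom)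
  let XW : Over S := Over.mk (pullback.snd b g ≫ W.hom)
  let eW : EW ⟶ XW := Over.homMk (pullback.snd e gX) rfl
  let πW : EW ⟶ ZW := Over.homMk π₁ (by
    show π₁ ≫ pullback.snd i g ≫ W.hom = _
    rw [reassoc_of% hπ]; rfl)
  let bW : XW ⟶ W := Over.homMk (pullback.snd b g) rfl
  let iW : ZW ⟶ W := Over.homMk (pullback.snd i g) rfl
  have hker : ∃ a₁ a₂ : Γ(W.left, ⊤),
      (pullback.snd i g).ker = Scheme.IdealSheafData.ofIdealTop (Ideal.span {a₁, a₂}) := by
    refine ⟨g.appTop f₁, g.appTop f₂, ?_⟩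
    have e1 : (pullback.snd i g).ker = i.ker.comap g := by
      rw [← pullbackSymmetry_hom_comp_fst, Scheme.Hom.ker_comp_of_isIso]
      exact Scheme.IdealSheafData.ker_fst_of_isClosedImmersion i g
    have hof : ∀ {P : Scheme.{u}} [IsAffine P] (K : P.IdealSheafData),
        Scheme.IdealSheafData.ofIdealTop (K.ideal ⟨⊤, isAffineOpen_top P⟩) = K := fun {P} _ K =>
      Scheme.IdealSheafData.equivOfIsAffine.symm_apply_apply K
    rw [e1, ← hof (i.ker.comap g), HTopCov.ideal_comap_of_isAffine, hI,
      show (Scheme.IdealSheafData.ofIdealTop (Ideal.span {f₁, f₂})).ideal ⟨⊤, isAffineOpen_top X.left⟩ = Ideal.span {f₁, f₂}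
        from Scheme.IdealSheafData.equivOfIsAffine.apply_symm_apply _, Ideal.map_span, Set.image_pair]
  have hglue := hsq EW ZW XW W eW πW bW iW inferInstance h₁ hker
  let cX : XW ⟶ Over.mk (b ≫ X.hom) := Over.homMk gX (by
    show gX ≫ b ≫ X.hom = pullback.snd b g ≫ W.hom
    rw [reassoc_of% hX.w, Over.w c])
  let cZ : ZW ⟶ Over.mk (i ≫ X.hom) := Over.homMk (pullback.fst i g) (by
    show pullback.fst i g ≫ i ≫ X.hom = pullback.snd i g ≫ W.hom
    rw [reassoc_of% hZ.w, Over.w c])
  intro x hx
  have hxs := (Presieve.compatible_iff_sieveCompatible x).mp hx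
  have hmX : Sieve.pullback c (Sieve.ofArrows Zf gf) bW :=
    ⟨Zf ⟨true⟩, cX, gf ⟨true⟩, Presieve.ofArrows.mk (Y := Zf) (f := gf) ⟨true⟩, Over.OverMorphism.ext (by
      show gX ≫ b = pullback.snd b g ≫ c.left
      exact hX.w)⟩
  have hmZ : Sieve.pullback c (Sieve.ofArrows Zf gf) iW :=
    ⟨Zf ⟨false⟩, cZ, gf ⟨false⟩, Presieve.ofArrows.mk (Y := Zf) (f := gf) ⟨false⟩, Over.OverMorphism.ext (by
      show pullback.fst i g ≫ i = pullback.snd i g ≫ c.left
      exact hZ.w)⟩
  obtain ⟨s, ⟨hs1, hs2⟩, hsu⟩ := hglue (x iW hmZ) (x bW hmX) (by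
    have e0 : πW ≫ iW = eW ≫ bW := Over.OverMorphism.ext hπ
    rw [← hxs iW πW hmZ, ← hxs bW eW hmX]
    congr 1)
  refine ⟨s, fun Z' l hl => ?_, fun y hy => hsu y ⟨hy _ hmZ, hy _ hmX⟩⟩
  obtain ⟨P, a, _, ⟨j⟩, hfac⟩ : Sieve.ofArrows Zf gf (l ≫ c) := hl
  rcases j with ⟨_ | _⟩
  · let m : Z' ⟶ ZW := Over.homMk (pullback.lift a.left l.left (congrArg CommaMorphism.left hfac)) (by
      show pullback.lift _ _ _ ≫ pullback.snd i g ≫ W.hom = Z'.hom
      rw [pullback.lift_snd_assoc]; exact Over.w l)
    have hl' : m ≫ iW = l := Over.OverMorphism.ext (pullback.lift_snd _ _ _)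
    rw [show F.map l.op s = F.map m.op (F.map iW.op s) by rw [← Functor.map_comp_apply, ← op_comp, hl'], hs1,
      ← hxs iW m hmZ]
    congr 1
  · let m : Z' ⟶ XW := Over.homMk (pullback.lift a.left l.left (congrArg CommaMorphism.left hfac)) (by
      show pullback.lift _ _ _ ≫ pullback.snd b g ≫ W.hom = Z'.hom
      rw [pullback.lift_snd_assoc]; exact Over.w l)
    have hl' : m ≫ bW = l := Over.OverMorphism.ext (pullback.lift_snd _ _ _)
    rw [show F.map l.op s = F.map m.op (F.map bW.op s) by rw [← Functor.map_comp_apply, ← op_comp, hl'], hs2,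
      ← hxs bW m hmX]
    congr 1

end Groth.Agent.HTopTree
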