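import Groth.Agent.HTopPerf.Induct

/-!
The dichotomy tree of a proper surjection over a Noetherian affine scheme, for an abstract property of algebras over
the base.
-/

set_option autoImplicit false
set_option backward.isDefEq.respectTransparency false
set_option backward.isDefEq.respectTransparency.types false
set_option linter.style.haveILetI false

universe u

open CategoryTheory Limits AlgebraicGeometry Opposite Polynomial

namespace Groth.Agent.HTopTree

open HTopPerf (str str_spec IsCoord exists_coord_finset exists_generators exists_affineOpens_finset exists_generic_point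
  exists_free_order)

variable {R₀ : CommRingCat.{u}} {Y : Scheme.{u}}

/-- A property of algebras closed under the moves of the tree. -/
structure TreeClosed (f : Y ⟶ Spec R₀) (Q : ∀ (L : Type u) [CommRing L], (R₀ →+* L) → Prop) : Prop where
  hom : ∀ (L L' : Type u) [CommRing L] [CommRing L'] (ρ : R₀ →+* L) (e : L →+* L'), Q L ρ → Q L' (e.comp ρ)
  zero : ∀ (L : Type u) [CommRing L] [Subsingleton L] (ρ : R₀ →+* L), Q L ρ
  sect : ∀ (L : Type u) [CommRing L] (ρ : R₀ →+* L) (s : Spec (CommRingCat.of L) ⟶ Y),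
    s ≫ f = Spec.map (CommRingCat.ofHom ρ) → Q L ρ
  free : ∀ (L L' : Type u) [CommRing L] [CommRing L'] [Algebra L L'] [Module.Free L L'] [Module.Finite L L']
    [Module.FaithfullyFlat L L'] (ρ : R₀ →+* L), Q L' ((algebraMap L L').comp ρ) → Q L ρ
  split : ∀ (L : Type u) [CommRing L] (ρ : R₀ →+* L) (c : L) (J : Ideal L), J.FG → (∀ j ∈ J, c * j = 0) →
    Q (L ⧸ Ideal.span {c}) ((Ideal.Quotient.mk _).comp ρ) → Q (L ⧸ J) ((Ideal.Quotient.mk _).comp ρ) → Q L ρ
  dichotomy : ∀ (L : Type u) [CommRing L] (ρ : R₀ →+* L) (a g : L),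
    Q (AdjoinRoot (Polynomial.C g * X - Polynomial.C a)) ((AdjoinRoot.of _).comp ρ) →
    Q (AdjoinRoot (Polynomial.C a * X - Polynomial.C g)) ((AdjoinRoot.of _).comp ρ) →
    Q (L ⧸ Ideal.span {a, g}) ((Ideal.Quotient.mk _).comp ρ) → Q L ρ
  cover : ∀ (L : Type u) [CommRing L] (ρ : R₀ →+* L) (t : Finset L), Ideal.span (t : Set L) = ⊤ →
    (∀ h ∈ t, Q (Localization.Away h) ((algebraMap L _).comp ρ)) → Q L ρ

variable {f : Y ⟶ Spec R₀} {Q : ∀ (L : Type u) [CommRing L], (R₀ →+* L) → Prop}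

theorem TreeClosed.of_ideal (hQ : TreeClosed f Q) {I' : Ideal R₀} (h : Q (R₀ ⧸ I') (Ideal.Quotient.mk I'))
    {L : Type u} [CommRing L] (ρ : R₀ →+* L) (hρ : I' ≤ RingHom.ker ρ) : Q L ρ := by
  have := hQ.hom _ L _ (Ideal.Quotient.lift I' ρ fun a ha => hρ ha) h
  rwa [Ideal.Quotient.lift_comp_mk] at this

variable {L : Type u} [Field L]

/-- The last stage: a domain inside `L` with each coordinate or its inverse. -/
theorem good_of_injective (hQ : TreeClosed f Q) [UniversallyClosed f] [QuasiCompact f]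
    (s : Finset Y.affineOpens) (hs : ∀ y : Y, ∃ U ∈ s, y ∈ U.1) (G : ∀ U : Y.affineOpens, Finset Γ(Y, U.1))
    (hG : ∀ U, Subring.closure (Set.range (str f U) ∪ ↑(G U)) = ⊤)
    (η : Spec (CommRingCat.of L) ⟶ Y) {M : Type u} [CommRing M] (ρ : R₀ →+* M) (χ : M →+* L)
    (hχ : Function.Injective χ) (hη : η ≫ f = Spec.map (CommRingCat.ofHom (χ.comp ρ)))
    (hT : ∀ U ∈ s, ∀ e, IsCoord η U e → ∀ b ∈ G U, e b ≠ 0 → e b ∈ χ.range ∨ (e b)⁻¹ ∈ χ.range) :
    Q _ ρ := by
  classical
  let H : Set M := {h | Q (Localization.Away h) ((algebraMap M (Localization.Away h)).comp ρ)}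
  suffices hH : Ideal.span H = ⊤ by
    obtain ⟨t, htH, ht⟩ := (Ideal.span_eq_top_iff_finite H).mp hH
    exact hQ.cover M ρ t ht fun h hh => htH hh
  by_contra hne
  obtain ⟨P, hPmax, hPle⟩ := Ideal.exists_le_maximal _ hne
  let Loc := Localization.AtPrime P
  have hunit : ∀ x : P.primeCompl, IsUnit (χ x.1) := fun x =>
    isUnit_iff_ne_zero.mpr fun h0 => x.2 (by rw [hχ (h0.trans (map_zero χ).symm)]; exact P.zero_mem)
  let χP : Loc →+* L := IsLocalization.lift hunit
  obtain ⟨V, hV, hloc⟩ := IsLocalRing.exists_factor_valuationRing χP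
  let ψ : Loc →+* V := χP.codRestrict V.toSubring hV
  haveI : IsLocalHom ψ := hloc
  let ρV : R₀ →+* V := ψ.comp ((algebraMap M Loc).comp ρ)
  have hρV : (algebraMap V L).comp ρV = χ.comp ρ := RingHom.ext fun a => IsLocalization.lift_eq hunit (ρ a)
  let S : ValuativeCommSq f :=
    { R := V, K := L, i₁ := η, i₂ := Spec.map (CommRingCat.ofHom ρV)
      commSq := ⟨by rw [hη, ← Spec.map_comp, ← hρV]; rfl⟩ }
  haveI : S.commSq.HasLift := by
    have h := (‹UniversallyClosed f› : UniversallyClosed f)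
    rw [UniversallyClosed.eq_valuativeCriterion] at h
    exact h.1 S
  let l : Spec (CommRingCat.of V) ⟶ Y := S.commSq.lift
  have hl1 : Spec.map (CommRingCat.ofHom (algebraMap V L)) ≫ l = η := S.commSq.fac_left
  have hl2 : l ≫ f = Spec.map (CommRingCat.ofHom ρV) := S.commSq.fac_right
  obtain ⟨U, hUs, hyU⟩ := hs (l (IsLocalRing.closedPoint V))
  have hrange : Set.range l ⊆ Set.range U.2.fromSpec := by
    rintro _ ⟨v, rfl⟩
    rw [U.2.range_fromSpec]
    exact ((IsLocalRing.specializes_closedPoint v).map l.continuous).mem_open U.1.2 hyU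
  let εU : Γ(Y, U.1) ⟶ CommRingCat.of V := Spec.preimage (IsOpenImmersion.lift U.2.fromSpec l hrange)
  have hεU : Spec.map εU ≫ U.2.fromSpec = l := by rw [Spec.map_preimage, IsOpenImmersion.lift_fac]
  let e : Γ(Y, U.1) →+* L := (algebraMap V L).comp εU.hom
  have he : IsCoord η U e := by
    show Spec.map (εU ≫ CommRingCat.ofHom (algebraMap V L)) ≫ _ = η
    rw [Spec.map_comp, Category.assoc, hεU, hl1]
  have hec : ∀ a, e (str f U a) = χ (ρ a) := fun a => by
    have e1 : str f U ≫ εU = CommRingCat.ofHom ρV := by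
      apply Spec.map_injective
      rw [Spec.map_comp, str_spec, reassoc_of% hεU, hl2]
    show algebraMap V L ((str f U ≫ εU) a) = _
    rw [e1]
    exact RingHom.congr_fun hρV a
  have hm : ∀ b ∈ G U, e b ∉ χ.range → ∃ m, m ∉ P ∧ χ m = (e b)⁻¹ := fun b hb hnot => by
    have h0 : e b ≠ 0 := fun h0 => hnot (h0 ▸ χ.range.zero_mem)
    obtain ⟨m, hm⟩ := (hT U hUs e he b hb h0).resolve_left hnot
    refine ⟨m, fun hmP => ?_, hm⟩
    have hu : IsUnit (ψ (algebraMap M Loc m)) := IsUnit.of_mul_eq_one (εU b) (Subtype.ext (by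
      show χP (algebraMap M Loc m) * e b = 1
      rw [IsLocalization.lift_eq, hm, inv_mul_cancel₀ h0]))
    exact (IsLocalization.AtPrime.isUnit_to_map_iff Loc P m).mp (IsUnit.of_map ψ _ hu) hmP
  choose! m hmP hmχ using hm
  let h := ∏ b ∈ (G U).filter (fun b => e b ∉ χ.range), m b
  have hhP : h ∉ P := by
    have : h ∈ P.primeCompl := prod_mem fun b hb => hmP b (Finset.mem_filter.mp hb).1 (Finset.mem_filter.mp hb).2
    exact this
  refine hhP (hPle (Ideal.subset_span ?_))
  have hhu : IsUnit (χ h) := hunit ⟨h, hhP⟩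
  let χh : Localization.Away h →+* L := IsLocalization.Away.lift h hhu
  have hχh : ∀ x, χh (algebraMap M _ x) = χ x := fun x => IsLocalization.Away.lift_eq h hhu x
  have hχhinj : Function.Injective χh := (injective_iff_map_eq_zero χh).mpr fun z hz => by
    obtain ⟨⟨x, t⟩, hx⟩ := IsLocalization.surj (Submonoid.powers h) z
    have : χ x = 0 := by rw [← hχh, ← hx, map_mul, hz, zero_mul]
    rw [hχ (this.trans (map_zero χ).symm), map_zero] at hx
    exact (IsLocalization.map_units (Localization.Away h) t).mul_left_eq_zero.mp hx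
  have hmem : ∀ b, e b ∈ χh.range := fun b => by
    have hb : b ∈ Subring.closure (Set.range (str f U) ∪ ↑(G U)) := by rw [hG]; trivial
    induction hb using Subring.closure_induction with
    | mem x hx =>
      rcases hx with ⟨a, rfl⟩ | hx
      · exact ⟨algebraMap M _ (ρ a), by rw [hχh, hec]⟩
      · by_cases hr : e x ∈ χ.range
        · obtain ⟨m', hm'⟩ := hr
          exact ⟨algebraMap M _ m', by rw [hχh, hm']⟩
        · have hu : IsUnit (algebraMap M (Localization.Away h) (m x)) := isUnit_of_dvd_unit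
            (map_dvd _ (Finset.dvd_prod_of_mem m (Finset.mem_filter.mpr ⟨hx, hr⟩)))
            (IsLocalization.Away.algebraMap_isUnit h)
          refine ⟨↑hu.unit⁻¹, ?_⟩
          rw [map_units_inv, IsUnit.unit_spec, hχh, hmχ x hx hr, inv_inv]
    | zero => rw [map_zero]; exact zero_mem _
    | one => rw [map_one]; exact one_mem _
    | add x y _ _ hx hy => rw [map_add]; exact add_mem hx hy
    | neg x _ hx => rw [map_neg]; exact neg_mem hx
    | mul x y _ _ hx hy => rw [map_mul]; exact mul_mem hx hy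
  let δ : Γ(Y, U.1) →+* Localization.Away h :=
    (RingEquiv.ofLeftInverse (Function.leftInverse_invFun hχhinj)).symm.toRingHom.comp (e.codRestrict χh.range hmem)
  have hδ : ∀ b, χh (δ b) = e b := fun b =>
    congrArg Subtype.val ((RingEquiv.ofLeftInverse (Function.leftInverse_invFun hχhinj)).apply_symm_apply
      (e.codRestrict χh.range hmem b))
  refine hQ.sect _ _ (Spec.map (CommRingCat.ofHom δ) ≫ U.2.fromSpec) ?_
  rw [Category.assoc, ← str_spec, ← Spec.map_comp]
  congr 1
  refine CommRingCat.hom_ext (RingHom.ext fun a => hχhinj ?_)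
  show χh (δ (str f U a)) = χh (algebraMap M _ (ρ a))
  rw [hδ, hec, hχh]

/-- The dichotomy tree. -/
theorem good_of_birational (hQ : TreeClosed f Q) [UniversallyClosed f] [QuasiCompact f] {I : Ideal R₀} [I.IsPrime]
    (IH : ∀ I' : Ideal R₀, I < I' → Q (R₀ ⧸ I') (Ideal.Quotient.mk I'))
    (s : Finset Y.affineOpens) (hs : ∀ y : Y, ∃ U ∈ s, y ∈ U.1) (G : ∀ U : Y.affineOpens, Finset Γ(Y, U.1))
    (hG : ∀ U, Subring.closure (Set.range (str f U) ∪ ↑(G U)) = ⊤)
    (η : Spec (CommRingCat.of L) ⟶ Y) {D : Type u} [CommRing D] [IsNoetherianRing D] (ρ : R₀ →+* D) (j : D →+* L)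
    (hj : Function.Injective j) (hρI : I ≤ RingHom.ker ρ)
    (hη : η ≫ f = Spec.map (CommRingCat.ofHom (j.comp ρ)))
    (hfrac : ∀ x : L, ∃ r : R₀, r ∉ I ∧ j (ρ r) * x ∈ j.range) (hne : ∀ r : R₀, r ∉ I → j (ρ r) ≠ 0) :
    Q _ ρ := by
  classical
  obtain ⟨T₀, hT₀⟩ := exists_coord_finset η s G
  let T := T₀.erase 0
  choose r hr hrx using hfrac
  let g := ∏ x ∈ T, r x * r x⁻¹
  have hg : g ∉ I := by
    have : g ∈ I.primeCompl := prod_mem fun x _ => mul_mem (show r x ∈ I.primeCompl from hr x)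
      (show r x⁻¹ ∈ I.primeCompl from hr x⁻¹)
    exact this
  have hjg : j (ρ g) ≠ 0 := hne g hg
  have hfr : ∀ x ∈ T, (∃ a, j a = j (ρ g) * x) ∧ ∃ a, j a = j (ρ g) * x⁻¹ := fun x hx => by
    have hdvd : r x * r x⁻¹ ∣ g := Finset.dvd_prod_of_mem (fun x => r x * r x⁻¹) hx
    obtain ⟨c, hc⟩ := hdvd
    obtain ⟨a₁, ha₁⟩ := hrx x
    obtain ⟨a₂, ha₂⟩ := hrx x⁻¹
    exact ⟨⟨ρ (r x⁻¹) * ρ c * a₁, by simp only [map_mul, ha₁, hc]; ring⟩,
      ⟨ρ (r x) * ρ c * a₂, by simp only [map_mul, ha₂, hc]; ring⟩⟩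
  suffices key : ∀ (l : List L), (∀ x ∈ l, x ∈ T) → ∀ (M : Type u) [CommRing M] [IsNoetherianRing M]
      (i : D →+* M) (χ : M →+* L), χ.comp i = j → (∀ m, ∃ k, i (ρ g) ^ k * m ∈ i.range) →
      (∀ x ∈ T, x ∈ l ∨ x ∈ χ.range ∨ x⁻¹ ∈ χ.range) → Q M (i.comp ρ) by
    simpa using key T.toList (fun x hx => Finset.mem_toList.mp hx) D (RingHom.id D) j (RingHom.comp_id j)
      (fun m => ⟨0, m, by simp⟩) (fun x hx => .inl (Finset.mem_toList.mpr hx))
  intro l
  induction l with
  | nil =>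
    intro _ M _ _ i χ hi hk hc
    obtain ⟨t, ht⟩ := (IsNoetherian.noetherian (RingHom.ker χ) : (RingHom.ker χ).FG)
    have h0 : ∀ m ∈ RingHom.ker χ, ∃ k, i (ρ g) ^ k * m = 0 := fun m hm => by
      obtain ⟨k, d, hd⟩ := hk m
      refine ⟨k, ?_⟩
      have : j d = 0 := by
        rw [← hi, RingHom.comp_apply, hd, map_mul, show χ m = 0 from hm, mul_zero]
      rw [← hd, hj (this.trans (map_zero j).symm), map_zero]
    choose! k hk0 using h0
    let K := t.sup k
    have hK : RingHom.ker χ * Ideal.span {i (ρ g) ^ K} = ⊥ := by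
      rw [← ht, Submodule.span_mul_span, eq_bot_iff, Submodule.span_le]
      rintro _ ⟨a, ha, _, rfl, rfl⟩
      have ha' : a ∈ RingHom.ker χ := ht ▸ Submodule.subset_span ha
      show a * i (ρ g) ^ K = 0
      rw [mul_comm, show K = (K - k a) + k a from (Nat.sub_add_cancel (Finset.le_sup (f := k) ha)).symm, pow_add,
        mul_assoc, hk0 a ha', mul_zero]
    refine hQ.split M _ (i (ρ g) ^ K) (RingHom.ker χ) ⟨t, ht⟩ (fun a ha => ?_) ?_ ?_
    · have : a * i (ρ g) ^ K ∈ RingHom.ker χ * Ideal.span {i (ρ g) ^ K} :=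
        Ideal.mul_mem_mul ha (Ideal.mem_span_singleton_self _)
      rw [hK, Ideal.mem_bot] at this
      rw [mul_comm]; exact this
    rotate_left
    · refine good_of_injective hQ s hs G hG η _ (RingHom.kerLift χ) (RingHom.kerLift_injective χ) ?_ ?_
      · rw [hη, ← hi]
        rfl
      · intro U hU e he b hb hb0
        have hmem : e b ∈ T := Finset.mem_erase.mpr ⟨hb0, hT₀ U hU e he b hb hb0⟩
        rcases (hc _ hmem).resolve_left List.not_mem_nil with ⟨m, hm⟩ | ⟨m, hm⟩
        · exact .inl ⟨Ideal.Quotient.mk _ m, hm⟩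
        · exact .inr ⟨Ideal.Quotient.mk _ m, hm⟩
    · refine hQ.of_ideal (IH (I ⊔ Ideal.span {g ^ K}) ?_) _ ?_
      · refine left_lt_sup.mpr fun hle => hg ?_
        exact ‹I.IsPrime›.mem_of_pow_mem K (hle (Ideal.mem_span_singleton_self _))
      · refine sup_le (fun a ha => ?_) ((Ideal.span_singleton_le_iff_mem _).mpr ?_)
        · show Ideal.Quotient.mk _ (i (ρ a)) = 0
          rw [show ρ a = 0 from hρI ha, map_zero, map_zero]
        · show Ideal.Quotient.mk _ (i (ρ (g ^ K))) = 0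
          rw [map_pow, map_pow]
          exact Ideal.Quotient.eq_zero_iff_mem.mpr (Ideal.mem_span_singleton_self _)
  | cons x l ihl =>
    intro hl M _ _ i χ hi hk hc
    have hx := hl x List.mem_cons_self
    have hx0 : x ≠ 0 := Finset.ne_of_mem_erase hx
    obtain ⟨⟨a, ha⟩, a', ha'⟩ := hfr x hx
    have haa : a * a' = ρ g * ρ g := hj (by rw [map_mul, map_mul, ha, ha']; field_simp)
    have hclosed : ∀ (P : M[X]) (u : AdjoinRoot P), (∃ k, ((AdjoinRoot.of P).comp i) (ρ g) ^ k * AdjoinRoot.root P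
        ∈ ((AdjoinRoot.of P).comp i).range) →
        ∃ k, ((AdjoinRoot.of P).comp i) (ρ g) ^ k * u ∈ ((AdjoinRoot.of P).comp i).range := by
      intro P u hroot
      let J := ((AdjoinRoot.of P).comp i)
      have key : ∀ q : M[X], ∃ k, J (ρ g) ^ k * AdjoinRoot.mk P q ∈ J.range := fun q => by
        induction q using Polynomial.induction_on with
        | C m =>
          obtain ⟨k, d, hd⟩ := hk m
          exact ⟨k, d, by show AdjoinRoot.of P (i d) = _; rw [hd, map_mul, map_pow]; rfl⟩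
        | add q₁ q₂ h₁ h₂ =>
          obtain ⟨k₁, h₁⟩ := h₁
          obtain ⟨k₂, h₂⟩ := h₂
          refine ⟨k₁ + k₂, ?_⟩
          rw [map_add, mul_add, pow_add]
          refine add_mem ?_ ?_
          · rw [mul_assoc, mul_left_comm]
            exact mul_mem (pow_mem (show J (ρ g) ∈ J.range from ⟨_, rfl⟩) _) h₁
          · rw [mul_assoc]
            exact mul_mem (pow_mem (show J (ρ g) ∈ J.range from ⟨_, rfl⟩) _) h₂
        | monomial n m ih =>
          obtain ⟨k₁, h₁⟩ := ih
          obtain ⟨k₂, h₂⟩ := hroot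
          refine ⟨k₁ + k₂, ?_⟩
          rw [pow_succ, ← mul_assoc, map_mul, AdjoinRoot.mk_X, pow_add, mul_mul_mul_comm]
          exact mul_mem h₁ h₂
      obtain ⟨q, rfl⟩ := AdjoinRoot.mk_surjective u
      exact key q
    let P₁ : M[X] := Polynomial.C (i (ρ g)) * X - Polynomial.C (i a)
    let P₂ : M[X] := Polynomial.C (i a) * X - Polynomial.C (i (ρ g))
    have hχi : ∀ d, χ (i d) = j d := fun d => RingHom.congr_fun hi d
    refine hQ.dichotomy M _ (i a) (i (ρ g)) ?_ ?_ ?_
    rotate_left 2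
    · refine hQ.of_ideal (IH (I ⊔ Ideal.span {g}) (left_lt_sup.mpr fun hle =>
        hg (hle (Ideal.mem_span_singleton_self _)))) _
        (sup_le (fun c hc' => ?_) ((Ideal.span_singleton_le_iff_mem _).mpr ?_))
      · show Ideal.Quotient.mk _ (i (ρ c)) = 0
        rw [show ρ c = 0 from hρI hc', map_zero, map_zero]
      · exact Ideal.Quotient.eq_zero_iff_mem.mpr (Ideal.subset_span (by simp))
    · have h0 : P₁.eval₂ χ x = 0 := by simp [P₁, hχi, ha]
      refine ihl (fun y hy => hl y (List.mem_cons_of_mem _ hy)) (AdjoinRoot P₁) ((AdjoinRoot.of P₁).comp i)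
        (AdjoinRoot.lift χ x h0) (RingHom.ext fun d => (AdjoinRoot.lift_of h0).trans (hχi d)) ?_ ?_
      · intro u
        refine hclosed P₁ u ⟨1, a, ?_⟩
        have := AdjoinRoot.eval₂_root P₁
        simp [P₁, sub_eq_zero] at this
        simpa using this.symm
      · intro y hy
        rcases hc y hy with h | h | h
        · rcases List.mem_cons.mp h with rfl | h
          · exact .inr (.inl ⟨AdjoinRoot.root P₁, AdjoinRoot.lift_root h0⟩)
          · exact .inl h
        · obtain ⟨m, hm⟩ := h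
          exact .inr (.inl ⟨AdjoinRoot.of P₁ m, by rw [AdjoinRoot.lift_of h0, hm]⟩)
        · obtain ⟨m, hm⟩ := h
          exact .inr (.inr ⟨AdjoinRoot.of P₁ m, by rw [AdjoinRoot.lift_of h0, hm]⟩)
    · have h0 : P₂.eval₂ χ x⁻¹ = 0 := by simp [P₂, hχi, ha, mul_assoc, mul_inv_cancel₀ hx0]
      refine ihl (fun y hy => hl y (List.mem_cons_of_mem _ hy)) (AdjoinRoot P₂) ((AdjoinRoot.of P₂).comp i)
        (AdjoinRoot.lift χ x⁻¹ h0) (RingHom.ext fun d => (AdjoinRoot.lift_of h0).trans (hχi d)) ?_ ?_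
      · intro u
        refine hclosed P₂ u ⟨2, a' * ρ g, ?_⟩
        have := AdjoinRoot.eval₂_root P₂
        simp [P₂, sub_eq_zero] at this
        simp only [RingHom.comp_apply, map_mul]
        have e2 := congrArg (fun d => AdjoinRoot.of P₂ (i d)) haa
        simp only [map_mul] at e2
        linear_combination -(AdjoinRoot.of P₂ (i a')) * this + AdjoinRoot.root P₂ * e2
      · intro y hy
        rcases hc y hy with h | h | h
        · rcases List.mem_cons.mp h with rfl | h
          · exact .inr (.inr ⟨AdjoinRoot.root P₂, AdjoinRoot.lift_root h0⟩)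
          · exact .inl h
        · obtain ⟨m, hm⟩ := h
          exact .inr (.inl ⟨AdjoinRoot.of P₂ m, by rw [AdjoinRoot.lift_of h0, hm]⟩)
        · obtain ⟨m, hm⟩ := h
          exact .inr (.inr ⟨AdjoinRoot.of P₂ m, by rw [AdjoinRoot.lift_of h0, hm]⟩)

/-- Along a proper surjection over a Noetherian affine scheme, functions descend up to a uniform `p`-power after
every base change. -/
theorem TreeClosed.apply (hQ : TreeClosed f Q) [IsNoetherianRing R₀] [IsProper f] [Surjective f] :
    Q R₀ (RingHom.id R₀) := by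
  classical
  haveI : CompactSpace Y := QuasiCompact.compactSpace_of_compactSpace f
  obtain ⟨s, hs⟩ := exists_affineOpens_finset Y
  choose G hG using exists_generators (f := f)
  suffices ∀ I : Ideal R₀, Q (R₀ ⧸ I) (Ideal.Quotient.mk I) by
    exact hQ.of_ideal (this ⊥) _ bot_le
  intro I
  induction I using WellFoundedGT.induction with
  | _ I IH =>
  by_cases htop : I = ⊤
  · haveI : Subsingleton (R₀ ⧸ I) := Ideal.Quotient.subsingleton_iff.mpr htop
    exact hQ.zero _ _
  by_cases hpr : I.IsPrime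
  · haveI := hpr
    obtain ⟨L, _, _, _, η, hη⟩ := exists_generic_point (f := f) I
    letI : Algebra (R₀ ⧸ I) L :=
      ((algebraMap (FractionRing (R₀ ⧸ I)) L).comp (algebraMap (R₀ ⧸ I) _)).toAlgebra
    haveI : IsScalarTower (R₀ ⧸ I) (FractionRing (R₀ ⧸ I)) L := IsScalarTower.of_algebraMap_eq fun _ => rfl
    obtain ⟨D', hfree, hfin, hfr⟩ := exists_free_order (D := R₀ ⧸ I) (K := FractionRing (R₀ ⧸ I)) (L := L)
    haveI := hfree
    haveI := hfin
    haveI : Module.FaithfullyFlat (R₀ ⧸ I) D' := inferInstance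
    haveI : IsNoetherianRing D' := IsNoetherianRing.of_finite (R₀ ⧸ I) D'
    refine hQ.free (R₀ ⧸ I) D' _ ?_
    refine good_of_birational hQ (I := I) IH s hs G hG η _ D'.val.toRingHom Subtype.val_injective ?_ ?_ ?_ ?_
    · intro a ha
      show algebraMap (R₀ ⧸ I) D' (Ideal.Quotient.mk I a) = 0
      rw [Ideal.Quotient.eq_zero_iff_mem.mpr ha, map_zero]
    · rw [hη]
      rfl
    · intro x
      obtain ⟨g, hg, hgx⟩ := hfr x
      obtain ⟨r, rfl⟩ := Ideal.Quotient.mk_surjective g
      exact ⟨r, fun hr => hg (Ideal.Quotient.eq_zero_iff_mem.mpr hr), ⟨⟨_, hgx⟩, rfl⟩⟩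
    · intro r hr h0
      refine hr (Ideal.Quotient.eq_zero_iff_mem.mp ?_)
      have h1 : algebraMap (FractionRing (R₀ ⧸ I)) L (algebraMap (R₀ ⧸ I) _ (Ideal.Quotient.mk I r)) = 0 := h0
      exact IsFractionRing.injective (R₀ ⧸ I) (FractionRing (R₀ ⧸ I))
        (((map_eq_zero _).mp h1).trans (map_zero _).symm)
  · rw [Ideal.isPrime_iff] at hpr
    push Not at hpr
    obtain ⟨x, y, hxy, hx, hy⟩ := hpr htop
    refine hQ.split (R₀ ⧸ I) _ (Ideal.Quotient.mk I x) (Ideal.span {Ideal.Quotient.mk I y})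
      (Submodule.fg_span_singleton _) (fun j hj => ?_) ?_ ?_
    · obtain ⟨c, rfl⟩ := Ideal.mem_span_singleton'.mp hj
      rw [mul_comm c, ← mul_assoc, ← map_mul, Ideal.Quotient.eq_zero_iff_mem.mpr hxy, zero_mul]
    · refine hQ.of_ideal (IH (I ⊔ Ideal.span {x}) (left_lt_sup.mpr fun h => hx (h (Ideal.mem_span_singleton_self _))))
        _ (sup_le (fun a ha => ?_) ((Ideal.span_singleton_le_iff_mem _).mpr ?_))
      · show Ideal.Quotient.mk _ (Ideal.Quotient.mk I a) = 0
        rw [Ideal.Quotient.eq_zero_iff_mem.mpr ha, map_zero]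
      · exact Ideal.Quotient.eq_zero_iff_mem.mpr (Ideal.mem_span_singleton_self _)
    · refine hQ.of_ideal (IH (I ⊔ Ideal.span {y}) (left_lt_sup.mpr fun h => hy (h (Ideal.mem_span_singleton_self _))))
        _ (sup_le (fun a ha => ?_) ((Ideal.span_singleton_le_iff_mem _).mpr ?_))
      · show Ideal.Quotient.mk _ (Ideal.Quotient.mk I a) = 0
        rw [Ideal.Quotient.eq_zero_iff_mem.mpr ha, map_zero]
      · exact Ideal.Quotient.eq_zero_iff_mem.mpr (Ideal.mem_span_singleton_self _)

end Groth.Agent.HTopTree
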