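import Groth.Agent.HTopTree.Fin
import Groth.Agent.HTopTree.Induct
import Groth.Agent.HTopTree.Square
import Groth.Agent.HTopCov.AlmostExists
import Groth.Agent.ConsPropLib.NoethApprox
import Groth.Agent.SubtrRef.Stage

/-!
The h sheaf criterion by flat proper surjections and almost blow up squares with centres generated by two sections.
-/

set_option autoImplicit false
set_option backward.isDefEq.respectTransparency false
set_option backward.isDefEq.respectTransparency.types false
set_option linter.style.haveILetI false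

universe w u

namespace Groth.Agent.HTopTree

open CategoryTheory CategoryTheory.Limits AlgebraicGeometry HTop Opposite Polynomial

/-- The ring map of a morphism to a spectrum. -/
noncomputable abbrev gam {P : Scheme.{u}} {L : Type u} [CommRing L] (m : P ⟶ Spec (CommRingCat.of L)) :
    L →+* Γ(P, ⊤) := ((Scheme.ΓSpecIso (CommRingCat.of L)).inv ≫ m.appTop).hom

theorem gam_toSpec {P : Scheme.{u}} {L : Type u} [CommRing L] (φ : L →+* Γ(P, ⊤)) :
    gam (P.toSpecΓ ≫ Spec.map (CommRingCat.ofHom φ)) = φ := by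
  show ((Scheme.ΓSpecIso (CommRingCat.of L)).inv ≫ (P.toSpecΓ ≫ Spec.map (CommRingCat.ofHom φ)).appTop).hom = φ
  rw [Scheme.Hom.comp_appTop, Scheme.toSpecΓ_appTop, ← Scheme.ΓSpecIso_inv_naturality_assoc, Iso.inv_hom_id,
    Category.comp_id]
  rfl

theorem hom_ext_gam {P : Scheme.{u}} {L : Type u} [CommRing L] {m m' : P ⟶ Spec (CommRingCat.of L)}
    (h : gam m = gam m') : m = m' :=
  ext_of_isAffine ((cancel_epi (Scheme.ΓSpecIso (CommRingCat.of L)).inv).mp (CommRingCat.hom_ext h))

theorem gam_comp {P P' : Scheme.{u}} {L : Type u} [CommRing L] (g : P' ⟶ P) (m : P ⟶ Spec (CommRingCat.of L)) (x : L) :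
    gam (g ≫ m) x = g.appTop (gam m x) := by
  simp [gam]

theorem exists_factor {P : Scheme.{u}} {L L' : Type u} [CommRing L] [CommRing L'] (l : L →+* L')
    (m : P ⟶ Spec (CommRingCat.of L)) (χ : L' →+* Γ(P, ⊤)) (h : χ.comp l = gam m) :
    ∃ a : P ⟶ Spec (CommRingCat.of L'), a ≫ Spec.map (CommRingCat.ofHom l) = m := by
  refine ⟨P.toSpecΓ ≫ Spec.map (CommRingCat.ofHom χ), hom_ext_gam ?_⟩
  rw [Category.assoc, ← Spec.map_comp, ← h]
  exact gam_toSpec (χ.comp l)

theorem ideal_ofIdealTop {P : Scheme.{u}} [IsAffine P] (I : Ideal Γ(P, ⊤)) :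
    (Scheme.IdealSheafData.ofIdealTop I).ideal ⟨⊤, isAffineOpen_top P⟩ = I :=
  Scheme.IdealSheafData.equivOfIsAffine.apply_symm_apply I

/-- The closed subscheme of an affine scheme cut out by an ideal of functions. -/
noncomputable def imm {P : Scheme.{u}} [IsAffine P] (I : Ideal Γ(P, ⊤)) :
    Spec (CommRingCat.of (Γ(P, ⊤) ⧸ I)) ⟶ P :=
  Spec.map (CommRingCat.ofHom (Ideal.Quotient.mk I)) ≫ P.isoSpec.inv

instance {P : Scheme.{u}} [IsAffine P] (I : Ideal Γ(P, ⊤)) : IsClosedImmersion (imm I) := by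
  haveI : IsClosedImmersion (Spec.map (CommRingCat.ofHom (Ideal.Quotient.mk I))) :=
    IsClosedImmersion.spec_of_surjective _ Ideal.Quotient.mk_surjective
  unfold imm
  infer_instance

theorem imm_lfp {P : Scheme.{u}} [IsAffine P] {I : Ideal Γ(P, ⊤)} (hI : I.FG) :
    LocallyOfFinitePresentation (imm I) := by
  haveI : LocallyOfFinitePresentation (Spec.map (CommRingCat.ofHom (Ideal.Quotient.mk I))) := by
    rw [HasRingHomProperty.Spec_iff (P := @LocallyOfFinitePresentation)]
    exact RingHom.FinitePresentation.of_surjective _ Ideal.Quotient.mk_surjective (by simpa [Ideal.mk_ker] using hI)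
  unfold imm
  infer_instance

theorem imm_appTop {P : Scheme.{u}} [IsAffine P] (I : Ideal Γ(P, ⊤)) :
    (imm I).appTop = CommRingCat.ofHom (Ideal.Quotient.mk I) ≫ (Scheme.ΓSpecIso _).inv := by
  have h : P.isoSpec.inv.appTop = (Scheme.ΓSpecIso Γ(P, ⊤)).inv := by
    rw [← cancel_mono P.isoSpec.hom.appTop, ← Scheme.Hom.comp_appTop, P.isoSpec.hom_inv_id, Scheme.Hom.id_appTop,
      Scheme.isoSpec_hom, Scheme.toSpecΓ_appTop, Iso.inv_hom_id]
  rw [imm, Scheme.Hom.comp_appTop, h, ← Scheme.ΓSpecIso_inv_naturality]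

theorem imm_ker {P : Scheme.{u}} [IsAffine P] (I : Ideal Γ(P, ⊤)) :
    (imm I).ker = Scheme.IdealSheafData.ofIdealTop I := by
  rw [Scheme.ker_of_isAffine, imm_appTop]
  congr 1
  ext a
  rw [RingHom.mem_ker, ← Ideal.Quotient.eq_zero_iff_mem]
  exact map_eq_zero_iff _ (ConcreteCategory.bijective_of_isIso (Scheme.ΓSpecIso
    (CommRingCat.of (Γ(P, ⊤) ⧸ I))).inv).1

theorem imm_factor {P : Scheme.{u}} [IsAffine P] (I : Ideal Γ(P, ⊤)) {L : Type u} [CommRing L] (J : Ideal L)
    (m : P ⟶ Spec (CommRingCat.of L)) (h : J.map (gam m) ≤ I) :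
    ∃ a : Spec (CommRingCat.of (Γ(P, ⊤) ⧸ I)) ⟶ Spec (CommRingCat.of (L ⧸ J)),
      a ≫ Spec.map (CommRingCat.ofHom (Ideal.Quotient.mk J)) = imm I ≫ m := by
  refine exists_factor (Ideal.Quotient.mk J) _
    ((Scheme.ΓSpecIso (CommRingCat.of (Γ(P, ⊤) ⧸ I))).inv.hom.comp
      (Ideal.quotientMap I (gam m) (Ideal.map_le_iff_le_comap.mp h))) (RingHom.ext fun x => ?_)
  rw [gam_comp, imm_appTop]
  rfl

variable {S : Scheme.{u}} {F : (Over S)ᵒᵖ ⥤ Type w}

theorem mem_of_openCover {T : Over S} (R : Sieve T)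
    (h : ∀ x : T.left, ∃ D : T.left.Opens, x ∈ D ∧ R (Over.homMk D.ι : Over.mk (D.ι ≫ T.hom) ⟶ T)) :
    R ∈ (Scheme.zariskiTopology.over S) T := by
  rw [GrothendieckTopology.mem_over_iff]
  choose D hx hD using h
  have hV : TopologicalSpace.IsOpenCover D := top_le_iff.mp fun x _ => TopologicalSpace.Opens.mem_iSup.mpr ⟨x, hx x⟩
  refine GrothendieckTopology.superset_covering _
    ((Sieve.generate_le_iff _ _).mpr <| Presieve.ofArrows_le_iff.mpr fun x => ?_)
    (T.left.openCoverOfIsOpenCover D hV).mem_grothendieckTopology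
  exact (Sieve.overEquiv_iff R _).2 (hD x)

/-- The arrows to `T` whose composite with `t` lifts along one of the maps `l i`. -/
def factSieve {T : Over S} {L : Type u} [CommRing L] (t : T.left ⟶ Spec (CommRingCat.of L)) {ι : Type*}
    {L' : ι → CommRingCat.{u}} (l : ∀ i, L →+* L' i) : Sieve T where
  arrows Z g := ∃ (i : ι) (a : Z.left ⟶ Spec (L' i)), a ≫ Spec.map (CommRingCat.ofHom (l i)) = g.left ≫ t
  downward_closed := by
    rintro Z Z' g ⟨i, a, ha⟩ h
    exact ⟨i, h.left ≫ a, by rw [Category.assoc, ha, Over.comp_left, Category.assoc]⟩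

variable {U V : Over S} (f : V ⟶ U) {R₀ : CommRingCat.{u}} (v : U.left ⟶ Spec R₀)

/-- `f` is covering after every affine base change through `ρ`. -/
def Cov (F : (Over S)ᵒᵖ ⥤ Type w) (L : Type u) [CommRing L] (ρ : R₀ →+* L) : Prop :=
  ∀ (T : Over S) [IsAffine T.left] (k : T ⟶ U) (t : T.left ⟶ Spec (CommRingCat.of L)),
    t ≫ Spec.map (CommRingCat.ofHom ρ) = k.left ≫ v → (Sieve.generate (Presieve.singleton f)).pullback k ∈ JF F T

variable {f v}

open HTopCov.OverCrit in
theorem Cov.of_factSieve (hz : Presieve.IsSheaf (Scheme.zariskiTopology.over S) F) {L : Type u} [CommRing L]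
    {ρ : R₀ →+* L} {T : Over S} [IsAffine T.left] {k : T ⟶ U} {t : T.left ⟶ Spec (CommRingCat.of L)}
    (ht : t ≫ Spec.map (CommRingCat.ofHom ρ) = k.left ≫ v) {ι : Type*} {L' : ι → CommRingCat.{u}}
    (l : ∀ i, L →+* L' i) (hmem : factSieve t l ∈ JF F T) (hc : ∀ i, Cov f v F (L' i) ((l i).comp ρ)) :
    (Sieve.generate (Presieve.singleton f)).pullback k ∈ JF F T := by
  refine (JF F).transitive hmem _ fun Z g hg => ?_
  obtain ⟨i, a, ha⟩ := hg
  refine (JF F).transitive (zariski_le hz _ (affineSieve_mem Z)) _ fun Z' g' hg' => ?_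
  obtain ⟨W, b, c, hW, rfl⟩ := exists_fac_of_affineSieve hg'
  haveI := hW
  rw [Sieve.pullback_comp]
  refine (JF F).pullback_stable b ?_
  rw [← Sieve.pullback_comp, ← Sieve.pullback_comp]
  refine hc i W ((c ≫ g) ≫ k) (c.left ≫ a) ?_
  have e : Spec.map (CommRingCat.ofHom ((l i).comp ρ)) =
      Spec.map (CommRingCat.ofHom (l i)) ≫ Spec.map (CommRingCat.ofHom ρ) := by
    rw [← Spec.map_comp]; rfl
  rw [e, Category.assoc, reassoc_of% ha, ht]
  simp only [Over.comp_left, Category.assoc]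

/-- The trivial almost blow up square of a principal ideal, cut down by an ideal it kills. -/
theorem exists_square_of_mul_eq_zero {P : Scheme.{u}} [IsAffine P] (c : Γ(P, ⊤)) (J : Ideal Γ(P, ⊤)) (hJ : J.FG)
    (h : ∀ j ∈ J, c * j = 0) :
    IsAlmostBlowUpSquare (pullback.snd (imm (Ideal.span {c})) (imm J))
      (pullback.fst (imm (Ideal.span {c})) (imm J) ≫ 𝟙 _) (imm J ≫ 𝟙 P) (imm (Ideal.span {c})) := by
  let i := imm (Ideal.span {c})
  haveI := imm_lfp hJ
  have hifp : LocallyOfFinitePresentation i := imm_lfp (Submodule.fg_span_singleton _)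
  have hlp : IsLocPrincipal (i.ker.comap (𝟙 P)) := fun x => ⟨⟨⊤, isAffineOpen_top P⟩, trivial, c, by
    rw [Scheme.IdealSheafData.comap_id, imm_ker, ideal_ofIdealTop]⟩
  have h0 : IsAlmostBlowUpSquare i (𝟙 _) (𝟙 P) i := by
    refine ⟨inferInstance, hifp, IsPullback.of_vert_isIso ⟨by simp⟩, hlp, inferInstance, inferInstance,
      ?_, fun W g hg => ?_⟩
    · rw [Category.comp_id]
      have := HTopCov.isEffCartier_comap_supportedOn _ hlp
      rwa [← Scheme.IdealSheafData.comap_comp, Category.comp_id] at this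
    · obtain ⟨l, hl⟩ := HTopCov.exists_factor_supportedOn g (i.ker.comap (𝟙 P))
        (by rwa [Scheme.IdealSheafData.comap_id])
      refine ⟨l, by simpa using hl, fun l' hl' => ?_⟩
      rw [← cancel_mono (supportedOn (i.ker.comap (𝟙 P))).subschemeι, hl]
      simpa using hl'
  refine (HTopCov.ker_le_iff_isAlmostBlowUpSquare h0 (imm J) (IsPullback.of_hasPullback i (imm J))).mp ?_
  refine Scheme.IdealSheafData.le_of_isAffine ?_
  rw [imm_ker, ideal_ofIdealTop]
  intro j hj
  refine (HTopCov.mem_supportedOn_iff _ hlp ⟨⊤, isAffineOpen_top P⟩ (g := c) ?_ j).mpr ⟨1, by rw [pow_one, h j hj]⟩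
  rw [Scheme.IdealSheafData.comap_id, imm_ker, ideal_ofIdealTop]

theorem factSieve_split (hz : Presieve.IsSheaf (Scheme.zariskiTopology.over S) F) (hsq : SquareCond F) {L : Type u}
    [CommRing L] {T : Over S} [IsAffine T.left] (t : T.left ⟶ Spec (CommRingCat.of L)) (c : L) (J : Ideal L)
    (hJ : J.FG) (hcJ : ∀ j ∈ J, c * j = 0) :
    factSieve t (L' := HTopPerf.two (CommRingCat.of (L ⧸ Ideal.span {c})) (CommRingCat.of (L ⧸ J)))
      (HTopPerf.twoHom (Ideal.Quotient.mk (Ideal.span {c})) (Ideal.Quotient.mk J)) ∈ JF F T := by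
  let cT := gam t c
  let JT := J.map (gam t)
  have h : ∀ j ∈ JT, cT * j = 0 := by
    intro j hj
    refine Submodule.span_induction (p := fun j _ => cT * j = 0) ?_ (mul_zero _)
      (fun a b _ _ ha hb => by rw [mul_add, ha, hb, add_zero])
      (fun r a _ ha => by rw [smul_eq_mul, mul_left_comm, ha, mul_zero]) hj
    rintro _ ⟨j, hj, rfl⟩
    rw [← map_mul, hcJ j hj, map_zero]
  have sq := exists_square_of_mul_eq_zero cT JT (hJ.map _) h
  refine square_mem hz hsq sq cT cT (by rw [imm_ker, Set.pair_eq_singleton]) ?_ ?_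
  · obtain ⟨a, ha⟩ := imm_factor (Ideal.span {cT}) (Ideal.span {c}) t (by rw [Ideal.map_span, Set.image_singleton])
    exact ⟨⟨true⟩, a, ha⟩
  · obtain ⟨a, ha⟩ := imm_factor JT J t le_rfl
    exact ⟨⟨false⟩, a, by rw [ha]; simp⟩

theorem isUnit_ι_appTop_basicOpen {P : Scheme.{u}} (b : Γ(P, ⊤)) : IsUnit ((P.basicOpen b).ι.appTop b) := by
  have hres : (P.basicOpen b).topIso.hom ((P.basicOpen b).ι.appTop b) =
      P.presheaf.map (homOfLE (le_top : P.basicOpen b ≤ ⊤)).op b := by
    show ((P.basicOpen b).ι.appTop ≫ (P.basicOpen b).topIso.hom) b = _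
    congr 2
    simp only [Scheme.Opens.ι_appTop, Scheme.Opens.topIso, Functor.mapIso_hom, ← Functor.map_comp]
    rfl
  have h1 : IsUnit ((P.basicOpen b).topIso.hom ((P.basicOpen b).ι.appTop b)) := by
    rw [hres]
    exact RingedSpace.isUnit_res_basicOpen P.toLocallyRingedSpace.toRingedSpace b
  have h2 := h1.map (P.basicOpen b).topIso.inv.hom
  rwa [← CommRingCat.comp_apply, Iso.hom_inv_id] at h2

/-- Where an ideal generated by two functions is principal, one of them divides the other, locally. -/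
theorem exists_dvd_nhds {P : Scheme.{u}} {a g h : Γ(P, ⊤)} (e : Ideal.span {a, g} = Ideal.span {h}) (x : P) :
    ∃ D : P.Opens, x ∈ D ∧ (D.ι.appTop g ∣ D.ι.appTop a ∨ D.ι.appTop a ∣ D.ι.appTop g) := by
  have ha : a ∈ Ideal.span {h} := by rw [← e]; exact Ideal.subset_span (by simp)
  have hg : g ∈ Ideal.span {h} := by rw [← e]; exact Ideal.subset_span (by simp)
  have hh : h ∈ Ideal.span {a, g} := by rw [e]; exact Ideal.mem_span_singleton_self h
  obtain ⟨A, hA⟩ := Ideal.mem_span_singleton'.mp ha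
  obtain ⟨B, hB⟩ := Ideal.mem_span_singleton'.mp hg
  obtain ⟨C, D, hCD⟩ := Ideal.mem_span_pair.mp hh
  let d := 1 - C * A - D * B
  have hd : d * h = 0 := by
    show (1 - C * A - D * B) * h = 0
    linear_combination -hCD - C * hA - D * hB
  have hu := isUnit_ι_appTop_basicOpen (P := P)
  by_cases hxA : x ∈ P.basicOpen A
  · refine ⟨_, hxA, .inr ?_⟩
    rw [← hA, ← hB, map_mul, map_mul]
    exact mul_dvd_mul_right (hu A).dvd _
  by_cases hxB : x ∈ P.basicOpen B
  · refine ⟨_, hxB, .inl ?_⟩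
    rw [← hA, ← hB, map_mul, map_mul]
    exact mul_dvd_mul_right (hu B).dvd _
  have hxd : x ∈ P.basicOpen d := by
    rw [Scheme.mem_basicOpen_top] at hxA hxB ⊢
    have hm : ∀ b, b ∈ IsLocalRing.maximalIdeal (P.presheaf.stalk x) ↔ ¬ IsUnit b := fun b => Iff.rfl
    show IsUnit (P.presheaf.Γgerm x (1 - C * A - D * B))
    rw [map_sub, map_sub, map_one, sub_sub, map_mul, map_mul]
    exact IsLocalRing.isUnit_one_sub_self_of_mem_nonunits _
      (add_mem (Ideal.mul_mem_left _ _ ((hm _).mpr hxA)) (Ideal.mul_mem_left _ _ ((hm _).mpr hxB)))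
  refine ⟨_, hxd, .inl ?_⟩
  have h0 : (P.basicOpen d).ι.appTop h = 0 := (hu d).mul_right_eq_zero.mp (by rw [← map_mul, hd, map_zero])
  rw [← hA, map_mul, h0, mul_zero]
  exact dvd_zero _

/-- The three algebras of a dichotomy. -/
abbrev three (X₁ X₂ X₃ : CommRingCat.{u}) : Fin 3 → CommRingCat.{u}
  | 0 => X₁
  | 1 => X₂
  | 2 => X₃

abbrev threeHom {A : Type u} [CommRing A] {X₁ X₂ X₃ : CommRingCat.{u}} (a : A →+* X₁) (b : A →+* X₂) (c : A →+* X₃) :
    ∀ i, A →+* three X₁ X₂ X₃ i
  | 0 => a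
  | 1 => b
  | 2 => c

theorem factSieve_dichotomy (hz : Presieve.IsSheaf (Scheme.zariskiTopology.over S) F) (hsq : SquareCond F) {L : Type u}
    [CommRing L] {T : Over S} [IsAffine T.left] (t : T.left ⟶ Spec (CommRingCat.of L)) (a g : L) :
    factSieve t (L' := three (CommRingCat.of (AdjoinRoot (Polynomial.C g * X - Polynomial.C a)))
        (CommRingCat.of (AdjoinRoot (Polynomial.C a * X - Polynomial.C g))) (CommRingCat.of (L ⧸ Ideal.span {a, g})))
      (threeHom (AdjoinRoot.of _) (AdjoinRoot.of _) (Ideal.Quotient.mk _)) ∈ JF F T := by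
  let R := factSieve (T := T) t (L' := three (CommRingCat.of (AdjoinRoot (Polynomial.C g * X - Polynomial.C a)))
        (CommRingCat.of (AdjoinRoot (Polynomial.C a * X - Polynomial.C g))) (CommRingCat.of (L ⧸ Ideal.span {a, g})))
      (threeHom (AdjoinRoot.of _) (AdjoinRoot.of _) (Ideal.Quotient.mk _))
  let I : Ideal Γ(T.left, ⊤) := Ideal.span {gam t a, gam t g}
  haveI := imm_lfp (I := I) (Submodule.fg_span (Set.toFinite _))
  obtain ⟨E, X', e, π, b, hsquare⟩ := HTopCov.AlmostExists.exists_almostBlowUp (imm I)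
  let R' : Sieve T :=
    { arrows := fun Z k => R.pullback k ∈ JF F Z
      downward_closed := fun {Z Z'} k hk h => by
        show R.pullback (h ≫ k) ∈ JF F Z'
        rw [Sieve.pullback_comp]
        exact (JF F).pullback_stable h hk }
  refine (JF F).transitive (S := R') ?_ _ fun Z k hk => hk
  refine square_mem hz hsq hsquare (gam t a) (gam t g) (imm_ker I) ?_ ?_
  · obtain ⟨c, hc⟩ := imm_factor I (Ideal.span {a, g}) t (by rw [Ideal.map_span, Set.image_pair])
    exact (JF F).covering_of_eq_top ((Sieve.id_mem_iff_eq_top).mp (show R.pullback _ (𝟙 _) from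
      ⟨2, c, by rw [hc]; simp⟩))
  · refine zariski_le hz _ (mem_of_openCover _ fun x => ?_)
    obtain ⟨W, hxW, h, hh⟩ := hsquare.locPrincipal x
    haveI : IsAffine (W.1 : Scheme.{u}) := W.2
    let m : (W.1 : Scheme.{u}) ⟶ T.left := W.1.ι ≫ b
    have e1 : Ideal.span {m.appTop (gam t a), m.appTop (gam t g)} =
        Ideal.span {(W.1.ι.appLE W.1 ⊤ (by simp)).hom h} := by
      have e2 := HTopCov.ideal_comap_of_isAffine m (imm I).ker
      rw [imm_ker, ideal_ofIdealTop, Ideal.map_span, Set.image_pair, ← imm_ker,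
        Scheme.IdealSheafData.comap_comp,
        HTopCov.ideal_comap_appLE W.1.ι _ W ⟨⊤, isAffineOpen_top _⟩ (by simp), hh, Ideal.map_span,
        Set.image_singleton] at e2
      exact e2.symm
    obtain ⟨D, hxD, hdvd⟩ := exists_dvd_nhds e1 (⟨x, hxW⟩ : W.1)
    let D' : (Over.mk (b ≫ T.hom)).left.Opens := W.1.ι ''ᵁ D
    refine ⟨D', ⟨⟨x, hxW⟩, hxD, rfl⟩, ?_⟩
    show R ((Over.homMk D'.ι : Over.mk (D'.ι ≫ b ≫ T.hom) ⟶ Over.mk (b ≫ T.hom)) ≫
      (Over.homMk b : Over.mk (b ≫ T.hom) ⟶ T))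
    let δ : (D' : Scheme.{u}) ≅ (D : Scheme.{u}) := (W.1.ι.isoImage D).symm
    have hδ : δ.hom ≫ D.ι ≫ m = D'.ι ≫ b := by
      simp only [m, δ, Iso.symm_hom]
      rw [← reassoc_of% Scheme.Hom.isoImage_inv_ι W.1.ι D]
    have hg : ∀ y : L, gam (D'.ι ≫ b ≫ t) y = δ.hom.appTop (D.ι.appTop (m.appTop (gam t y))) := fun y => by
      rw [← gam_comp, ← gam_comp, ← gam_comp, reassoc_of% hδ]
    have key : ∀ (y z : L), D.ι.appTop (m.appTop (gam t z)) ∣ D.ι.appTop (m.appTop (gam t y)) →
        ∃ c : (D' : Scheme.{u}) ⟶ Spec (CommRingCat.of (AdjoinRoot (Polynomial.C z * X - Polynomial.C y))),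
          c ≫ Spec.map (CommRingCat.ofHom (AdjoinRoot.of _)) = D'.ι ≫ b ≫ t := by
      rintro y z ⟨u, hu⟩
      have h0 : (Polynomial.C z * X - Polynomial.C y).eval₂ (gam (D'.ι ≫ b ≫ t)) (δ.hom.appTop u) = 0 := by
        simp only [eval₂_sub, eval₂_mul, eval₂_C, eval₂_X, hg]
        rw [hu, map_mul, sub_self]
      exact exists_factor _ _ (AdjoinRoot.lift _ _ h0) (RingHom.ext fun q => AdjoinRoot.lift_of h0)
    rcases hdvd with hd | hd
    · obtain ⟨c, hc⟩ := key a g hd
      exact ⟨0, c, hc.trans (Category.assoc _ _ _).symm⟩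
    · obtain ⟨c, hc⟩ := key g a hd
      exact ⟨1, c, hc.trans (Category.assoc _ _ _).symm⟩

theorem factSieve_away (hz : Presieve.IsSheaf (Scheme.zariskiTopology.over S) F) {L : Type u}
    [CommRing L] {T : Over S} (t : T.left ⟶ Spec (CommRingCat.of L)) (s : Finset L)
    (hs : Ideal.span (s : Set L) = ⊤) :
    factSieve t (L' := fun h : ↥s => CommRingCat.of (Localization.Away (h : L)))
      (fun h => algebraMap L (Localization.Away (h : L))) ∈ JF F T := by
  refine zariski_le hz _ (mem_of_openCover _ fun x => ?_)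
  obtain ⟨h, hh, hx⟩ : ∃ h ∈ s, h ∉ (t x).asIdeal := by
    by_contra hcon
    push Not at hcon
    exact (t x).2.ne_top (top_le_iff.mp (hs ▸ Ideal.span_le.mpr hcon))
  let m := Spec.map (CommRingCat.ofHom (algebraMap L (Localization.Away h)))
  haveI : IsOpenImmersion m := inferInstanceAs (IsOpenImmersion (Spec.map (CommRingCat.ofHom
    (algebraMap L (Localization.Away h)))))
  have hrange : Set.range m = (PrimeSpectrum.basicOpen h : Set (PrimeSpectrum L)) :=
    PrimeSpectrum.localization_away_comap_range (Localization.Away h) h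
  let D : T.left.Opens := t ⁻¹ᵁ m.opensRange
  refine ⟨D, ?_, ⟨h, hh⟩, IsOpenImmersion.lift m (D.ι ≫ t) ?_, IsOpenImmersion.lift_fac _ _ _⟩
  · show t x ∈ Set.range m
    rw [hrange]
    exact hx
  · rintro _ ⟨y, rfl⟩
    exact y.2

theorem treeClosed (hz : Presieve.IsSheaf (Scheme.zariskiTopology.over S) F)
    (hflat : ∀ (X Y : Over S) (f : X ⟶ Y), IsAffine Y.left → Surjective f.left → Flat f.left → IsProper f.left →
      LocallyOfFinitePresentation f.left → Presieve.IsSheafFor F (Presieve.singleton f))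
    (hsq : SquareCond F) {Y₀ : Scheme.{u}} {f₀ : Y₀ ⟶ Spec R₀} {q : V.left ⟶ Y₀}
    (hq : IsPullback q f.left f₀ v) : TreeClosed f₀ (fun L _ ρ => Cov f v F L ρ) where
  hom L L' _ _ ρ e h T _ k t ht := h T k (t ≫ Spec.map (CommRingCat.ofHom e)) (by
    rw [Category.assoc, ← Spec.map_comp]; exact ht)
  zero L _ _ ρ T _ k t ht := by
    refine zariski_le hz _ (mem_of_openCover _ fun x => ?_)
    haveI : IsEmpty (PrimeSpectrum L) := inferInstance
    exact isEmptyElim (α := PrimeSpectrum L) (t x)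
  sect L _ ρ s hs T _ k t ht := by
    refine (JF F).covering_of_eq_top (Sieve.id_mem_iff_eq_top.mp ?_)
    show (Sieve.generate (Presieve.singleton f)) (𝟙 T ≫ k)
    rw [Category.id_comp]
    let m : T ⟶ V := Over.homMk (hq.lift (t ≫ s) k.left (by rw [Category.assoc, hs, ht])) (by
      rw [← Over.w f, hq.lift_snd_assoc]; exact Over.w k)
    exact ⟨V, m, f, ⟨⟩, Over.OverMorphism.ext (hq.lift_snd _ _ _)⟩
  free L L' _ _ _ _ _ _ ρ h T _ k t ht := by
    refine Cov.of_factSieve hz ht (ι := PUnit.{1}) (L' := fun _ => CommRingCat.of L') (fun _ => algebraMap L L') ?_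
      fun _ => h
    let p := Spec.map (CommRingCat.ofHom (algebraMap L L'))
    haveI : Module.FinitePresentation L L' := Module.finitePresentation_of_projective L L'
    haveI : Algebra.FinitePresentation L L' := Algebra.FinitePresentation.of_finitePresentation L L'
    haveI : IsFinite p := (IsFinite.SpecMap_iff _).mpr (RingHom.finite_algebraMap.mpr inferInstance)
    haveI : Flat p := by
      rw [HasRingHomProperty.Spec_iff (P := @Flat)]
      exact RingHom.flat_algebraMap_iff.mpr inferInstance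
    haveI : LocallyOfFinitePresentation p := by
      rw [HasRingHomProperty.Spec_iff (P := @LocallyOfFinitePresentation)]
      exact RingHom.finitePresentation_algebraMap.mpr inferInstance
    haveI : Surjective p := ⟨PrimeSpectrum.comap_surjective_of_faithfullyFlat⟩
    let T' : Over S := Over.mk (pullback.fst t p ≫ T.hom)
    let m : T' ⟶ T := Over.homMk (pullback.fst t p) rfl
    haveI : Surjective m.left := MorphismProperty.pullback_fst (P := @Surjective) t p inferInstance
    haveI : Flat m.left := MorphismProperty.pullback_fst (P := @Flat) t p inferInstance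
    haveI : IsProper m.left := MorphismProperty.pullback_fst (P := @IsProper) t p inferInstance
    haveI : LocallyOfFinitePresentation m.left :=
      MorphismProperty.pullback_fst (P := @LocallyOfFinitePresentation) t p inferInstance
    refine (JF F).superset_covering ((Sieve.generate_le_iff _ _).mpr ?_) (singleton_mem hz hflat m)
    rintro _ _ ⟨⟩
    exact ⟨⟨⟩, pullback.snd t p, pullback.condition.symm⟩
  split L _ ρ c J hJ hcJ h₁ h₂ T _ k t ht :=
    Cov.of_factSieve hz ht _ (factSieve_split hz hsq t c J hJ hcJ) fun i => match i with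
      | ⟨true⟩ => h₁
      | ⟨false⟩ => h₂
  dichotomy L _ ρ a g h₁ h₂ h₃ T _ k t ht :=
    Cov.of_factSieve hz ht _ (factSieve_dichotomy hz hsq t a g) fun i => match i with
      | 0 => h₁
      | 1 => h₂
      | 2 => h₃
  cover L _ ρ s hs h T _ k t ht :=
    Cov.of_factSieve hz ht _ (factSieve_away hz t s hs) fun i => h i.1 i.2

/-- The sheaf condition for proper surjections of finite presentation over affine schemes. -/
theorem isSheafFor_proper (hz : Presieve.IsSheaf (Scheme.zariskiTopology.over S) F)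
    (hflat : ∀ (X Y : Over S) (f : X ⟶ Y), IsAffine Y.left → Surjective f.left → Flat f.left → IsProper f.left →
      LocallyOfFinitePresentation f.left → Presieve.IsSheafFor F (Presieve.singleton f))
    (hsq : SquareCond F) (U V : Over S) (f : V ⟶ U) [IsAffine U.left] [IsProper f.left] [Surjective f.left]
    [LocallyOfFinitePresentation f.left] : Presieve.IsSheafFor F (Presieve.singleton f) := by
  obtain ⟨I, _, _, D, c, hc, e, hA, hN⟩ := ConsPropLib.exists_noetherian_limit U.left
  haveI := hA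
  haveI := hN
  haveI : ∀ (i j : I) (φ : i ⟶ j), IsAffineHom (D.map φ) := fun i j φ => isAffineHom_of_isAffine _
  obtain ⟨i, S₀, g₀, qS, hsq', hg₁, hg₂, -⟩ := SubtrRef.exists_proper_model D c hc (f.left ≫ e.inv)
  haveI := hg₁; haveI := hg₂
  let P := D.obj i
  haveI : IsAffine P := hA i
  haveI : IsLocallyNoetherian P := (hN i).toIsLocallyNoetherian
  haveI : IsNoetherianRing Γ(P, ⊤) := IsLocallyNoetherian.component_noetherian ⟨⊤, isAffineOpen_top P⟩
  let f₀ : S₀ ⟶ Spec Γ(P, ⊤) := g₀ ≫ P.isoSpec.hom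
  let v : U.left ⟶ Spec Γ(P, ⊤) := (e.inv ≫ c.π.app i) ≫ P.isoSpec.hom
  have hq : IsPullback qS f.left f₀ v :=
    hsq'.of_iso (Iso.refl _) (Iso.refl _) e P.isoSpec (by simp) (by simp) (by simp [f₀]) (by simp [v])
  have h := (treeClosed (f := f) hz hflat hsq hq).apply U (𝟙 U) v (by
    rw [show Spec.map (CommRingCat.ofHom (RingHom.id Γ(P, ⊤))) = 𝟙 _ from Spec.map_id _, Category.comp_id]
    exact (Category.id_comp _).symm)
  rw [Sieve.pullback_id] at h
  exact isSheafFor_of_mem h

theorem isSheaf_Jh (hz : Presieve.IsSheaf (Scheme.zariskiTopology.over S) F)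
    (hflat : ∀ (X Y : Over S) (f : X ⟶ Y), IsAffine Y.left → Surjective f.left → Flat f.left → IsProper f.left →
      LocallyOfFinitePresentation f.left → Presieve.IsSheafFor F (Presieve.singleton f))
    (hsq : SquareCond F) : Presieve.IsSheaf (Jh S) F :=
  HTopCov.OverCrit.isSheaf_Jh hz fun U V f hU hpr hsu hfp => by
    haveI := hU; haveI := hpr; haveI := hsu; haveI := hfp
    exact isSheafFor_proper hz hflat hsq U V f

theorem necessary (h : Presieve.IsSheaf (Jh S) F) :
    Presieve.IsSheaf (Scheme.zariskiTopology.over S) F ∧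
      (∀ (X Y : Over S) (f : X ⟶ Y), IsAffine Y.left → Surjective f.left → Flat f.left → IsProper f.left →
        LocallyOfFinitePresentation f.left → Presieve.IsSheafFor F (Presieve.singleton f)) ∧
      ∀ (E Z X' X : Over S) (e : E ⟶ X') (π : E ⟶ Z) (b : X' ⟶ X) (i : Z ⟶ X), IsAffine X.left →
        IsAlmostBlowUpSquare e.left π.left b.left i.left → ∀ (t : F.obj (op Z)) (s' : F.obj (op X')),
          F.map π.op t = F.map e.op s' → ∃! s : F.obj (op X), F.map i.op s = t ∧ F.map b.op s = s' := by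
  obtain ⟨hz, hp⟩ := (HTopCov.OverCrit.isSheaf_Jh_iff F).mp h
  exact ⟨hz, fun X Y f hA hs _ hpr hfp => hp Y X f hA hpr hs hfp,
    fun E Z X' X e π b i _ hsquare => existsUnique_glue_almostBlowUp h e π b i hsquare⟩

end Groth.Agent.HTopTree
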